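import Mathlib

set_option autoImplicit false
set_option maxRecDepth 100000

namespace Cfsg.Agent.Lib.Helper3.L32.L1

noncomputable def fc0_0 (i : ℕ) : ℕ := (nat_lit 0x10000000000010000050000a10000050000a10000020000410000020000410000040000a30000050000820000010000430000020000220000060000c30000060000c20000000000060000000000050000000000040000000000040000040000c10000060000810000030000a2000005000063000003000083000004000062000001000061000003000021000000000042000002000003000000000023000001000002)
noncomputable def sc0_0 (i : ℕ) : ℕ := (nat_lit 0x1600000300000700001400001000000100000500000e00000900000f000013000015000019000d000600000300000c00000600000d00001100001300000400000100000500001200001000000c00000700000d000002000f00050000130000090000120003000400000d00000f00001300001000000100000e00000a0007000300001100000e0002000200000500000900000b00000f00000000000e00000a000008000004000900010000fffe0000fffe0000ffff0000ffff0000ffff0000ffff0000ffff0000ffff)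
noncomputable def nc0_0 (i : ℕ) : ℕ := (nat_lit 0x6000005000004000003000002000001000000)
noncomputable def cc0_0 (i : ℕ) : ℕ := (nat_lit 0x600001000000400000a00000400001400000500001800000300000600000600000b00000500000900000100000400000100001200000200001600000000000000000300000500000200000300000000001a)

end Cfsg.Agent.Lib.Helper3.L32.L1
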